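import Cfsg.Agent.ThRep.Cosets
import Cfsg.Agent.ThCert.CentFix

/-!
An involution of the presented Thompson group commuting with four generators lies in the subgroup of index
143127000, and is one of three.
-/

set_option autoImplicit false
set_option maxRecDepth 100000
set_option Elab.async false

namespace Cfsg.Lib.ThOut

open Cfsg Cfsg.Lib.ThCert Cfsg.Lib.ThRep

attribute [local irreducible] mm mval clsMats gmat covOrd

/-- The group of order 1512 in four generators. -/
def fourSub : Subgroup P := Subgroup.closure {pg 3, pg 4, pg 5, pg 6}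

/-- An element of order nine in it. -/
def uW : List ℕ := [6, 8, 10]

/-- An element of order three normalising it. -/
def vW : List ℕ := [8, 11, 8, 13, 10]

/-- The word of a product of powers. -/
def uvW (i j : ℕ) : List ℕ := (List.replicate i uW).flatten ++ (List.replicate j vW).flatten

theorem uv_letters : ∀ i < 9, ∀ j < 3, ∀ x ∈ uvW i j, x ∈ [6, 8, 10, 11, 13] := by decide +kernel

theorem four_facts :
    ((List.range 9).all fun i => (List.range 3).all fun j => (List.range 9).all fun k => (List.range 3).all fun l =>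
      Nat.beq (mm (mval (uvW i j)) (mval (uvW k l))) (mval (uvW ((i + 7 ^ j * k) % 9) ((j + l) % 3)))) = true ∧
    ((List.range 9).all fun i => (List.range 3).all fun j => Nat.beq (i + j) 0 || !Nat.beq (mval (uvW i j)) one26) = true ∧
    Nat.beq (mval [10, 10, 10, 10, 10, 10, 10]) one26 = true ∧ Nat.beq (mval [10]) one26 = false := by
  decide +kernel

theorem cov_orders : ∀ n < 11, n = 0 ∨ ¬ 7 ∣ covOrd n ∨ ¬ 27 ∣ covOrd n := by
  decide +kernel

theorem cls_comm : ((List.range 819).all fun i => Nat.blt i 3 ||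
    !(Nat.beq (mm (clsMats.getD i 0) (gmat 6)) (mm (gmat 6) (clsMats.getD i 0)) &&
      Nat.beq (mm (clsMats.getD i 0) (gmat 8)) (mm (gmat 8) (clsMats.getD i 0)) &&
      Nat.beq (mm (clsMats.getD i 0) (gmat 10)) (mm (gmat 10) (clsMats.getD i 0)))) = true ∧
    Nat.beq (clsMats.getD 0 0) (mval [0]) = true ∧ Nat.beq (clsMats.getD 1 0) (mval [0, 2, 0]) = true ∧
    Nat.beq (clsMats.getD 2 0) (mval [2]) = true := by
  decide +kernel

theorem packed_eq {p q : ℕ} {a : P} (ha : El p a) (hb : El q a) (hp : p < 2 ^ 676) (hq : q < 2 ^ 676) : p = q :=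
  toMat_inj hp hq (ha.trans hb.symm)

theorem one26_lt : one26 < 2 ^ 676 := by decide +kernel

theorem mval_lt : ∀ w : List ℕ, mval w < 2 ^ 676
  | [] => by rw [show mval [] = one26 by with_unfolding_all rfl]; exact one26_lt
  | x :: w => by rw [show mval (x :: w) = mm (gmat x) (mval w) by with_unfolding_all rfl]; exact mm_lt _ _

theorem el_mem_four {x : ℕ} (hx : x ∈ [6, 8, 10, 11, 13]) : x < 14 ∧ sgn pg x ∈ fourSub := by
  have h : ∀ i ∈ [3, 4, 5, 6], pg i ∈ fourSub := fun i hi => Subgroup.subset_closure (by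
    simp only [List.mem_cons, List.not_mem_nil, or_false] at hi
    rcases hi with rfl | rfl | rfl | rfl <;> simp)
  simp only [List.mem_cons, List.not_mem_nil, or_false] at hx
  rcases hx with rfl | rfl | rfl | rfl | rfl <;> refine ⟨by norm_num, ?_⟩ <;> simp only [sgn] <;>
    first
    | exact h _ (by decide)
    | exact fourSub.inv_mem (h _ (by decide))

theorem mval_nil : mval [] = one26 := by with_unfolding_all rfl

theorem uv_mem {i j : ℕ} (hi : i < 9) (hj : j < 3) :
    wordVal (sgn pg) (uvW i j) ∈ fourSub ∧ El (mval (uvW i j)) (wordVal (sgn pg) (uvW i j)) := by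
  refine ⟨?_, El.word fun x hx => (el_mem_four (uv_letters i hi j hj x hx)).1⟩
  refine list_prod_mem fun y hy => ?_
  obtain ⟨x, hx, rfl⟩ := List.mem_map.1 hy
  exact (el_mem_four (uv_letters i hi j hj x hx)).2

theorem dvd_card_four : 7 ∣ Nat.card fourSub ∧ 27 ∣ Nat.card fourSub := by
  haveI := card_P_le.1
  obtain ⟨hmul, hne, h7, h7'⟩ := four_facts
  simp only [List.all_eq_true, List.mem_range] at hmul hne
  constructor
  · have hs : pg 5 ∈ fourSub := Subgroup.subset_closure (by simp)
    have e : wordVal (sgn pg) [10] = pg 5 := by simp [wordVal, sgn]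
    have h1 : pg 5 ^ 7 = 1 := by
      have := word_eq (w := [10, 10, 10, 10, 10, 10, 10]) (w' := []) (by decide) (by decide)
        ((Nat.eq_of_beq_eq_true h7).trans mval_nil.symm)
      simpa [wordVal, sgn, pow_succ, mul_assoc] using this
    have h2 : pg 5 ≠ 1 := fun hc => by
      refine Nat.ne_of_beq_eq_false h7' ?_
      have hw := El.word (w := [10]) (by decide)
      rw [e, hc] at hw
      exact toMat_inj_one hw
    have : orderOf (⟨pg 5, hs⟩ : fourSub) = 7 := by
      haveI : Fact (Nat.Prime 7) := ⟨by norm_num⟩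
      exact orderOf_eq_prime (Subtype.ext h1) fun hc => h2 (congrArg Subtype.val hc)
    have h := orderOf_dvd_natCard (⟨pg 5, hs⟩ : fourSub)
    rwa [this] at h
  · let S : Set P := {g | ∃ i < 9, ∃ j < 3, g = wordVal (sgn pg) (uvW i j)}
    have hmulS : ∀ a ∈ S, ∀ b ∈ S, a * b ∈ S := by
      rintro _ ⟨i, hi, j, hj, rfl⟩ _ ⟨k, hk, l, hl, rfl⟩
      refine ⟨_, Nat.mod_lt (i + 7 ^ j * k) (by norm_num), _, Nat.mod_lt (j + l) (by norm_num), ?_⟩
      refine El.eq sigma_injective ((uv_mem hi hj).2.mul (uv_mem hk hl).2) ?_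
      rw [Nat.eq_of_beq_eq_true (hmul i hi j hj k hk l hl)]
      exact (uv_mem (Nat.mod_lt _ (by norm_num)) (Nat.mod_lt _ (by norm_num))).2
    have hone : (1 : P) ∈ S := ⟨0, by norm_num, 0, by norm_num, by simp [uvW, wordVal]⟩
    have hpow : ∀ a ∈ S, ∀ n : ℕ, a ^ n ∈ S := fun a ha n => by
      induction n with
      | zero => rwa [pow_zero]
      | succ n ih => rw [pow_succ]; exact hmulS _ ih _ ha
    let M : Subgroup P :=
      { carrier := S
        one_mem' := hone
        mul_mem' := fun {a b} ha hb => hmulS a ha b hb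
        inv_mem' := fun {a} ha => by
          have h := hpow a ha (orderOf a - 1)
          rwa [show a ^ (orderOf a - 1) = a⁻¹ by
            rw [eq_inv_iff_mul_eq_one, ← pow_succ, Nat.sub_add_cancel (orderOf_pos a), pow_orderOf_eq_one]] at h }
    let f : Fin 9 × Fin 3 → M := fun z => ⟨_, z.1, z.1.2, z.2, z.2.2, rfl⟩
    have hinj : Function.Injective f := by
      rintro ⟨i, j⟩ ⟨k, l⟩ e
      have e' : wordVal (sgn pg) (uvW i j) = wordVal (sgn pg) (uvW k l) := congrArg Subtype.val e
      -- multiply by the inverse of the second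
      obtain ⟨i', hi', j', hj', hinv⟩ := (fun z => M.inv_mem z) (show wordVal (sgn pg) (uvW k l) ∈ M from
        ⟨k, k.2, l, l.2, rfl⟩)
      have hunit : ∀ a < 9, ∀ b < 3, wordVal (sgn pg) (uvW a b) = 1 → a = 0 ∧ b = 0 := fun a ha b hb hc => by
        rcases Bool.or_eq_true_iff.1 (hne a ha b hb) with h | h
        · have := Nat.eq_of_beq_eq_true h
          omega
        · exfalso
          have hw := (uv_mem ha hb).2
          rw [hc] at hw
          exact Nat.ne_of_beq_eq_false (by simpa using h) (toMat_inj_one hw)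
      have key : ∀ a < 9, ∀ b < 3, wordVal (sgn pg) (uvW a b) = wordVal (sgn pg) (uvW k l) →
          (a + 7 ^ b * i') % 9 = 0 ∧ (b + j') % 3 = 0 := by
        intro a ha b hb hab
        refine hunit _ (Nat.mod_lt _ (by norm_num)) _ (Nat.mod_lt _ (by norm_num)) ?_
        refine El.eq sigma_injective (uv_mem (Nat.mod_lt _ (by norm_num)) (Nat.mod_lt _ (by norm_num))).2 ?_
        rw [← Nat.eq_of_beq_eq_true (hmul a ha b hb i' hi' j' hj')]
        have := (uv_mem ha hb).2.mul (uv_mem hi' hj').2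
        rwa [← hinv, hab, mul_inv_cancel] at this
      obtain ⟨a1, b1⟩ := key i i.2 j j.2 e'
      obtain ⟨a2, b2⟩ := key k k.2 l l.2 rfl
      have hjl : (j : ℕ) = l := by omega
      rw [hjl] at a1
      exact Prod.ext (Fin.ext (show (i : ℕ) = k by omega)) (Fin.ext hjl)
    have hsurj : Function.Surjective f := by
      rintro ⟨_, i, hi, j, hj, rfl⟩
      exact ⟨(⟨i, hi⟩, ⟨j, hj⟩), rfl⟩
    have hcard : Nat.card M = 27 := by
      rw [← Nat.card_eq_of_bijective f ⟨hinj, hsurj⟩, Nat.card_prod, Nat.card_fin, Nat.card_fin]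
    have hle : M ≤ fourSub := by
      rintro _ ⟨i, hi, j, hj, rfl⟩
      exact (uv_mem hi hj).1
    exact hcard ▸ Subgroup.card_dvd_of_le hle
where
  toMat_inj_one {p : List ℕ} (h : El (mval p) 1) : mval p = one26 :=
    packed_eq h El.one (mval_lt _) one26_lt

/-- An involution commuting with four generators is one of three. -/
theorem cent_cases {x : Spor.Th} (hxx : x * x = 1) (ha3 : (tg 0 * x) ^ 3 = 1)
    (hc : ∀ i ∈ [3, 4, 5, 6], tg i * x = x * tg i) :
    x = tg 0 ∨ x = tg 1 ∨ x = tg 0 * tg 1 * tg 0 := by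
  haveI := card_P_le.1
  obtain ⟨hbij, hcs⟩ := allMap_facts
  obtain ⟨⟨n, z⟩, hz⟩ := hbij.2 (x : Spor.Th ⧸ Kth)
  have hn0 : n.val = 0 := by
    revert hz
    refine Quotient.inductionOn' z fun a hz => ?_
    have hz' : ((fTh a * (vv n.val)⁻¹ : Spor.Th) : Spor.Th ⧸ Kth) = (x : Spor.Th ⧸ Kth) := hz
    have hgen : ∀ l ∈ fourSub, fTh l * x = x * fTh l := by
      intro l hl
      refine Subgroup.closure_induction (p := fun l _ => fTh l * x = x * fTh l) ?_ (by simp) ?_ ?_ hl
      · intro l hl
        simp only [Set.mem_insert_iff, Set.mem_singleton_iff] at hl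
        rcases hl with rfl | rfl | rfl | rfl <;> rw [fTh_pg (by norm_num)] <;> exact hc _ (by decide)
      · intro l m _ _ h1 h2
        rw [map_mul, mul_assoc, h2, ← mul_assoc, h1, mul_assoc]
      · intro l _ h1
        rw [map_inv]
        exact (Commute.inv_left (show Commute (fTh l) x from h1)).eq
    have hmem : ∀ l ∈ fourSub, a⁻¹ * l * a ∈ cosStab n.val := by
      intro l hl
      have hx1 : (fTh a * (vv n.val)⁻¹)⁻¹ * x ∈ Kth := QuotientGroup.eq.1 hz'
      have e : allMap ⟨n, ((l * a : P) : P ⧸ cosStab n.val)⟩ = allMap ⟨n, ((a : P) : P ⧸ cosStab n.val)⟩ := by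
        refine Eq.trans ?_ hz.symm
        show ((fTh (l * a) * (vv n.val)⁻¹ : Spor.Th) : Spor.Th ⧸ Kth) = (x : Spor.Th ⧸ Kth)
        have h2 : ((x * fTh l : Spor.Th) : Spor.Th ⧸ Kth) = (x : Spor.Th ⧸ Kth) :=
          QuotientGroup.eq.2 (by rw [mul_inv_rev, inv_mul_cancel_right]; exact Kth.inv_mem ⟨l, rfl⟩)
        rw [← h2, ← hgen l hl]
        refine QuotientGroup.eq.2 ?_
        rw [show (fTh (l * a) * (vv n.val)⁻¹)⁻¹ * (fTh l * x) = (fTh a * (vv n.val)⁻¹)⁻¹ * x by
          rw [map_mul]; group]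
        exact hx1
      have e' := hbij.1 e
      simp only [Sigma.mk.injEq, heq_eq_eq, true_and] at e'
      have h3 := QuotientGroup.eq.1 e'.symm
      rwa [← mul_assoc] at h3
    have hdvd : Nat.card fourSub ∣ covOrd n.val := by
      rw [← hcs n, ← Subgroup.card_map_of_injective (f := (MulAut.conj a⁻¹).toMonoidHom) (MulEquiv.injective _)]
      refine Subgroup.card_dvd_of_le ?_
      rintro _ ⟨l, hl, rfl⟩
      simpa [MulAut.conj_apply] using hmem l hl
    rcases cov_orders n.val n.2 with h | h | h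
    · exact h
    · exact absurd (dvd_card_four.1.trans hdvd) h
    · exact absurd (dvd_card_four.2.trans hdvd) h
  obtain ⟨y, rfl⟩ : x ∈ Kth := by
    revert hz
    refine Quotient.inductionOn' z fun a hz => ?_
    have hz' : ((fTh a * (vv n.val)⁻¹ : Spor.Th) : Spor.Th ⧸ Kth) = (x : Spor.Th ⧸ Kth) := hz
    have h := QuotientGroup.eq.1 hz'
    rw [hn0, vv_zero, inv_one, mul_one] at h
    rw [show x = fTh a * ((fTh a)⁻¹ * x) by group]
    exact Kth.mul_mem ⟨a, rfl⟩ h
  have hyy : y * y = 1 := fTh_injective (by rw [map_mul, map_one]; exact hxx)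
  have hy3 : (pg 0 * y) ^ 3 = 1 := fTh_injective (by
    rw [map_pow, map_mul, fTh_pg (by norm_num), map_one]; exact ha3)
  have hyc : ∀ i ∈ [3, 4, 5], pg i * y = y * pg i := fun i hi => fTh_injective (by
    have hi' : i < 7 := (show ∀ i ∈ [3, 4, 5], i < 7 by decide) i hi
    rw [map_mul, map_mul, fTh_pg hi']
    exact hc i ((show ∀ i ∈ [3, 4, 5], i ∈ [3, 4, 5, 6] by decide) i hi))
  have ha : pg 0 * pg 0 = 1 := by
    have := word_eq (w := [0, 0]) (w' := []) (by decide) (by decide) mval_sq
    simpa [wordVal, sgn] using this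
  have hcj : y = cj (pg 0 * y) := by
    unfold cj
    rw [mul_inv_rev, inv_eq_of_mul_eq_one_right ha, inv_eq_of_mul_eq_one_right hyy]
    have h3 : pg 0 * y * (pg 0 * y) * (pg 0 * y) = 1 := by rw [← hy3, pow_succ, pow_two]
    calc y = pg 0 * y * (pg 0 * y) * (pg 0 * y) * y := by rw [h3, one_mul]
      _ = pg 0 * y * pg 0 * y * pg 0 * (y * y) := by group
      _ = _ := by rw [hyy, mul_one]; group
  obtain ⟨i, hi, he⟩ := class_P (pg 0 * y)
  rw [← hcj] at he
  have hEl : El (clsMats.getD i 0) y := he ▸ (cls_mem i hi).1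
  have hcm : ∀ k, k ∈ [3, 4, 5] → mm (clsMats.getD i 0) (gmat (2 * k)) = mm (gmat (2 * k)) (clsMats.getD i 0) := by
    intro k hk
    have hk7 : 2 * k < 14 := (show ∀ k ∈ [3, 4, 5], 2 * k < 14 by decide) k hk
    have hs : sgn pg (2 * k) = pg k := by simp [sgn]
    have h1 := hEl.mul (El.letter hk7)
    have h2 := (El.letter hk7).mul hEl
    rw [hs] at h1 h2
    rw [hyc k hk] at h2
    exact packed_eq h1 h2 (mm_lt _ _) (mm_lt _ _)
  have hi3 : i < 3 := by
    rcases Bool.or_eq_true_iff.1 (List.all_eq_true.1 cls_comm.1 i (List.mem_range.2 hi)) with h | h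
    · exact Nat.le_of_ble_eq_true h
    · exfalso
      simp only [Bool.not_eq_true', Bool.and_eq_false_iff] at h
      rcases h with (h | h) | h
      · exact Nat.ne_of_beq_eq_false h (hcm 3 (by decide))
      · exact Nat.ne_of_beq_eq_false h (hcm 4 (by decide))
      · exact Nat.ne_of_beq_eq_false h (hcm 5 (by decide))
  have fin : ∀ w : List ℕ, (∀ x ∈ w, x < 14) → clsMats.getD i 0 = mval w → y = wordVal (sgn pg) w :=
    fun w hw e => El.eq sigma_injective hEl (e ▸ El.word hw)
  obtain ⟨-, h0, h1, h2⟩ := cls_comm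
  interval_cases i
  · left
    rw [fin [0] (by decide) (Nat.eq_of_beq_eq_true h0)]
    simp [wordVal, sgn, fTh_pg]
  · right; right
    rw [fin [0, 2, 0] (by decide) (Nat.eq_of_beq_eq_true h1)]
    simp [wordVal, sgn, fTh_pg, mul_assoc]
  · right; left
    rw [fin [2] (by decide) (Nat.eq_of_beq_eq_true h2)]
    simp [wordVal, sgn, fTh_pg]
where
  mval_sq : mval [0, 0] = mval [] := by decide +kernel

end Cfsg.Lib.ThOut
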