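import Cfsg.Agent.ThOut.Chars
import Cfsg.Agent.ThOut.FixedCoset
import Cfsg.Agent.SolvStruct.AltAut
import Cfsg.Agent.ThRep.Simple
import Cfsg.Prelude.Def_KGroupFacts

/-!
Every automorphism of the presented Thompson group is inner.
-/

set_option autoImplicit false
set_option maxRecDepth 100000
set_option exponentiation.threshold 3000

namespace Cfsg.Lib.ThOut

open Equiv Cfsg Cfsg.Lib.ThCert Cfsg.Lib.ThRep

attribute [local irreducible] mm3 prodG wmat one248 gM gEl redAll redOK linkOK letGL rho lineM rhoQ cLines cImg cqMats qg qc lt el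
  Cfsg.Lib.ThRep.cHom chi

theorem finite_Th : Finite Spor.Th := th_facts.1

theorem finite_cTh : Finite cTh := Nat.finite_of_card_ne_zero (by rw [cTh_order.1]; norm_num)

theorem finite_Q : Finite Q := Nat.finite_of_card_ne_zero (by rw [card_Q]; norm_num)

/-- A subgroup of order 512 normal in the centraliser is the normal subgroup. -/
theorem Q_unique {N : Subgroup cTh} (hN : N.Normal) (hc : Nat.card N = 2 ^ 9) : N = Q := by
  haveI := finite_cTh
  haveI := finite_Q
  haveI := alternatingGroup.isSimpleGroup (α := Fin 9) (by simp)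
  rcases (hN.map cHom cHom_surj).eq_bot_or_eq_top with e | e
  · exact Subgroup.eq_of_le_of_card_ge (fun x hx => MonoidHom.mem_ker.2 (Subgroup.mem_bot.1 (e ▸ ⟨x, hx, rfl⟩)))
      (by rw [card_Q, hc])
  · exfalso
    have h := Subgroup.card_map_dvd N cHom
    rw [e, Subgroup.card_top, card_alt9, hc] at h
    norm_num at h

theorem map_Q (ψ : MulAut cTh) : Q.map ψ.toMonoidHom = Q :=
  Q_unique ((inferInstance : Q.Normal).map _ ψ.surjective)
    (by rw [Subgroup.card_map_of_injective ψ.injective, card_Q])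

/-- The restriction of an automorphism to the normal subgroup. -/
noncomputable def resQ (ψ : MulAut cTh) : Q →* Q :=
  (ψ.toMonoidHom.comp Q.subtype).codRestrict Q fun q => by
    have : ψ.toMonoidHom (q : cTh) ∈ Q.map ψ.toMonoidHom := ⟨q, q.2, rfl⟩
    rwa [map_Q] at this

theorem resQ_val (ψ : MulAut cTh) (q : Q) : (resQ ψ q : cTh) = ψ q := rfl

theorem resQ_surj (ψ : MulAut cTh) : Function.Surjective (resQ ψ) := fun q => by
  have h : (q : cTh) ∈ Q.map ψ.toMonoidHom := by rw [map_Q]; exact q.2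
  obtain ⟨y, hy, e⟩ := h
  exact ⟨⟨y, hy⟩, Subtype.ext e⟩

theorem resQ_zero {ψ : MulAut cTh} (h : ψ (qg 0 : cTh) = qg 0) : resQ ψ (qg 0) = qg 0 := Subtype.ext h

theorem chi_inner {i : ℕ} (r : Q) {x : cTh} (q : Q) :
    chi i (cjQ ((r : cTh) * x) q) = chi i (cjQ x q) := by
  have e : cjQ ((r : cTh) * x) q = r * cjQ x q * r⁻¹ := Subtype.ext (by
    rw [cjQ_val, Subgroup.coe_mul, Subgroup.coe_mul, cjQ_val, Subgroup.coe_inv]; group)
  rw [e, map_mul, map_mul, map_inv, mul_comm (chi i r), mul_inv_cancel_right]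

/-- The twist of an automorphism on the first character. -/
theorem chi_twist (ψ : MulAut cTh) {x y : cTh} {f : ℕ → ℕ} (hy : Step y f) {i : ℕ} (hi : i < 120)
    (h : cHom (ψ x) = cHom y) (q : Q) : chi i (resQ ψ (cjQ x q)) = chi (f i) (resQ ψ q) := by
  have hr : ψ x * y⁻¹ ∈ Q := MonoidHom.mem_ker.2 (by rw [map_mul, map_inv, h, mul_inv_cancel])
  have e : resQ ψ (cjQ x q) = cjQ ((⟨_, hr⟩ : Q) * y) (resQ ψ q) := Subtype.ext (by
    rw [resQ_val, cjQ_val, cjQ_val, resQ_val, map_mul, map_mul, map_inv, inv_mul_cancel_right])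
  rw [e, chi_inner, chi_conj hy hi]

theorem chi0_resQ_ne (ψ : MulAut cTh) : (chi 0).comp (resQ ψ) ≠ 1 := fun e => chi0_ne (MonoidHom.ext fun q => by
  obtain ⟨p, rfl⟩ := resQ_surj ψ q
  exact DFunLike.congr_fun e p)

theorem tau_isP : IsP tauL (Equiv.swap 0 1 : Perm (Fin 9)) := by
  refine ⟨rfl, ?_⟩
  decide

/-- No automorphism induces a transposition. -/
theorem not_twisted (ψ : MulAut cTh) (ha : ψ (qg 0 : cTh) = qg 0)
    (h : ∀ x, (cHom (ψ x) : Perm (Fin 9)) = Equiv.swap 0 1 * (cHom x : Perm (Fin 9)) * Equiv.swap 0 1) : False := by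
  refine chi0_resQ_ne ψ (k_invariant (by rw [MonoidHom.comp_apply, resQ_zero ha, chi0_zero]) fun w hw q => ?_)
  obtain ⟨t, ht, e1, e2⟩ : ∃ t < 2, kW.getD t [] = w ∧ hW.getD t [] ∈ hW := by
    simp only [kW, List.mem_cons, List.not_mem_nil, or_false] at hw
    rcases hw with rfl | rfl
    · exact ⟨0, by norm_num, rfl, by simp [hW]⟩
    · exact ⟨1, by norm_num, rfl, by simp [hW]⟩
  obtain ⟨hlt, hfix, -, htw⟩ := word_facts
  have hk := el_perm (w := w) fun g hg => hlt w (by simp [hw]) g hg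
  have hh := el_perm (w := hW.getD t []) fun g hg => hlt _ (List.mem_append_left _ (List.mem_append_left _ e2)) g hg
  rw [← e1, htw t ht] at hk
  have hp := hk.unique ((tau_isP.mul hh).mul tau_isP)
  have hy : cHom (ψ (el w)) = cHom (el (hW.getD t [])) := by
    refine Subtype.ext ?_
    rw [h, ← e1, hp]
    simp [mul_assoc, Equiv.swap_mul_self_mul]
  rw [MonoidHom.comp_apply, MonoidHom.comp_apply,
    chi_twist ψ (el_step fun g hg => hlt _ (List.mem_append_left _ (List.mem_append_left _ e2)) g hg) (by norm_num) hy, hfix _ e2]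

/-- The partners of the series. -/
theorem qg_rel {i j : ℕ} (hi : i < 9) (hj : j < 9) :
    qg j * qg i * (qg j)⁻¹ = if 0 < j ∧ i = cqPair j then qg i * qg 0 else qg i := by
  have h := cq_rel hj hi
  have hz : rhoQ (qg i) * rhoQ (qg 0) = rhoQ (qg i * qg 0) := (map_mul _ _ _).symm
  split_ifs with hp
  · rw [if_pos hp] at h
    refine mul_inv_eq_iff_eq_mul.2 (rhoQ_inj ?_)
    rw [map_mul, map_mul, map_mul, rhoQ_qg hi, rhoQ_qg hj, rhoQ_qg (by norm_num), h.2]
    have hc := cq_rel (show 0 < 9 by norm_num) hj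
    rw [if_neg fun h => lt_irrefl 0 h.1] at hc
    rw [mul_assoc, mul_assoc, hc]
  · rw [if_neg hp] at h
    refine mul_inv_eq_iff_eq_mul.2 (rhoQ_inj ?_)
    rw [map_mul, map_mul, rhoQ_qg hi, rhoQ_qg hj, h]

theorem conj_list {i : ℕ} (hi : i < 9) : ∀ L : List ℕ, L.Nodup → (∀ j ∈ L, 0 < j ∧ j < 9) →
    (L.map qg).prod * qg i * ((L.map qg).prod)⁻¹ = if 0 < i ∧ cqPair i ∈ L then qg i * qg 0 else qg i
  | [], _, _ => by simp
  | j :: L, hn, hL => by
    obtain ⟨hnot, hn'⟩ := List.nodup_cons.1 hn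
    obtain ⟨hj0, hj9⟩ := hL j List.mem_cons_self
    have ih := conj_list hi L hn' fun k hk => hL k (List.mem_cons_of_mem j hk)
    rw [List.map_cons, List.prod_cons, mul_inv_rev,
      show ∀ a b c : Q, a * b * c * (b⁻¹ * a⁻¹) = a * (b * c * b⁻¹) * a⁻¹ from fun a b c => by group, ih]
    have hz : qg j * qg 0 * (qg j)⁻¹ = qg 0 := by
      rw [qg_rel (by norm_num) hj9, if_neg fun h => pair_ne j hj9 hj0 h.2.symm]
    have hiff : (0 < j ∧ i = cqPair j) ↔ (0 < i ∧ cqPair i = j) := pair_iff i hi j hj9 hj0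
    by_cases hp : 0 < i ∧ cqPair i ∈ L
    · have hne : ¬(0 < j ∧ i = cqPair j) := fun h => hnot ((hiff.1 h).2 ▸ hp.2)
      rw [if_pos hp, if_pos ⟨hp.1, List.mem_cons_of_mem j hp.2⟩,
        show qg j * (qg i * qg 0) * (qg j)⁻¹ = qg j * qg i * (qg j)⁻¹ * (qg j * qg 0 * (qg j)⁻¹) by group,
        hz, qg_rel hi hj9, if_neg hne]
    · rw [if_neg hp, qg_rel hi hj9]
      by_cases hq : 0 < j ∧ i = cqPair j
      · rw [if_pos hq, if_pos ⟨(hiff.1 hq).1, List.mem_cons.2 (Or.inl (hiff.1 hq).2)⟩]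
      · rw [if_neg hq, if_neg fun h => (List.mem_cons.1 h.2).elim (fun e => hq (hiff.2 ⟨h.1, e⟩))
          fun e => hp ⟨h.1, e⟩]
where
  pair_ne : ∀ j < 9, 0 < j → cqPair j ≠ 0 := by decide +kernel
  pair_iff : ∀ i < 9, ∀ j < 9, 0 < j → ((0 < j ∧ i = cqPair j) ↔ (0 < i ∧ cqPair i = j)) := by decide +kernel

/-- An automorphism inducing the identity on the nine letters is inner. -/
theorem untwisted_inner (ψ : MulAut cTh) (ha : ψ (qg 0 : cTh) = qg 0) (h : ∀ x, cHom (ψ x) = cHom x) :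
    ∃ y : cTh, ∀ x, ψ x = y * x * y⁻¹ := by
  obtain ⟨hlt, hfix, hbase, -⟩ := word_facts
  have h0 : (chi 0).comp (resQ ψ) = chi 0 := by
    refine h_invariant (by rw [MonoidHom.comp_apply, resQ_zero ha, chi0_zero]) (chi0_resQ_ne ψ) fun w hw q => ?_
    rw [MonoidHom.comp_apply, MonoidHom.comp_apply,
      chi_twist ψ (el_step fun g hg => hlt w (by simp [hw]) g hg) (by norm_num) (h _), hfix w hw]
  have hB : ∀ k < 8, ∀ q, chi (baseB k) (resQ ψ q) = chi (baseB k) q := fun k hk q => by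
    have hs := el_step (w := baseW.getD k []) fun g hg => hlt _ (by
      simp only [List.mem_append]
      exact Or.inr (by
        rw [List.getD_eq_getElem _ _ (by exact hk)]
        exact List.getElem_mem _)) g hg
    have e1 := chi_twist ψ hs (i := 0) (by norm_num) (h (el (baseW.getD k []))) q
    have e2 := chi_conj hs (i := 0) (by norm_num) q
    rw [(hbase k hk).2] at e1 e2
    rw [← e1, ← e2]
    exact DFunLike.congr_fun h0 _
  -- the deviation lies in the centre
  have hdev : ∀ q : Q, q⁻¹ * resQ ψ q = 1 ∨ q⁻¹ * resQ ψ q = qg 0 := fun q => by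
    obtain ⟨n, hn⟩ := signs_trivial (q := q⁻¹ * resQ ψ q) fun k hk => by
      rw [map_mul, map_inv, hB k hk, inv_mul_cancel]
    have hn' : qg 0 ^ n = q⁻¹ * resQ ψ q := hn
    rcases Int.emod_two_eq_zero_or_one n with e | e <;>
      rw [← zpow_mod_orderOf, qg_zero_orderOf] at hn' <;> norm_num [e] at hn'
    · exact Or.inl hn'.symm
    · exact Or.inr hn'.symm
  classical
  let L : List ℕ := (List.range 9).filter fun p => decide (0 < p ∧ resQ ψ (qg (cqPair p)) ≠ qg (cqPair p))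
  let r : Q := (L.map qg).prod
  have hL : ∀ j ∈ L, 0 < j ∧ j < 9 := fun j hj => by
    obtain ⟨h1, h2⟩ := List.mem_filter.1 hj
    exact ⟨(of_decide_eq_true h2).1, List.mem_range.1 h1⟩
  have hQ : ∀ q, resQ ψ q = r * q * r⁻¹ := by
    refine DFunLike.congr_fun (hom_ext_Q (g := ((MulAut.conj r : MulAut Q).toMonoidHom)) fun i hi => ?_)
    show _ = r * qg i * r⁻¹
    rw [conj_list hi L (List.nodup_range.filter _) hL]
    rcases Nat.eq_zero_or_pos i with rfl | hi0
    · rw [if_neg fun h => lt_irrefl 0 h.1, resQ_zero ha]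
    · obtain ⟨hp0, hp9, hpp⟩ := pair_inv i hi hi0
      have hmem : cqPair i ∈ L ↔ resQ ψ (qg i) ≠ qg i := by
        simp only [L, List.mem_filter, List.mem_range, decide_eq_true_eq, hpp, hp9, hp0, true_and]
      by_cases hd : resQ ψ (qg i) = qg i
      · rw [if_neg fun h => hmem.1 h.2 hd, hd]
      · rw [if_pos ⟨hi0, hmem.2 hd⟩]
        rcases hdev (qg i) with e | e
        · exact absurd (inv_mul_eq_one.1 e).symm hd
        · rw [← e, mul_inv_cancel_left]
  -- what is left is a homomorphism into the centre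
  let d : cTh → cTh := fun x => (r : cTh)⁻¹ * ψ x * r * x⁻¹
  have hd : ∀ x, d x = 1 ∨ d x = (qg 0 : cTh) := fun x => centralizing fun q => by
    have e : ∀ p : Q, ψ (p : cTh) = (r : cTh) * p * (r : cTh)⁻¹ := fun p => by
      rw [← resQ_val, hQ]; simp
    have e1 := e (cjQ x⁻¹ q)
    rw [cjQ_val, map_mul, map_mul, inv_inv, map_inv, e q] at e1
    have e2 := congrArg (fun z => (r : cTh)⁻¹ * ψ x * z * r * x⁻¹) e1
    simp only [mul_assoc, mul_inv_cancel_left, inv_mul_cancel_left, mul_inv_cancel, inv_mul_cancel,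
      mul_one] at e2
    show (r : cTh)⁻¹ * ψ x * r * x⁻¹ * q = q * ((r : cTh)⁻¹ * ψ x * r * x⁻¹)
    simp only [mul_assoc]
    exact e2.symm
  have hcen : ∀ x y, y * d x = d x * y := fun x y => by
    rcases hd x with e | e <;> rw [e]
    · rw [mul_one, one_mul]
    · exact qg_zero_central y
  let δ : cTh →* cTh := MonoidHom.mk' d fun x y => by
    have : d (x * y) = (r : cTh)⁻¹ * ψ x * r * (d y) * x⁻¹ := by
      simp only [d, map_mul, mul_inv_rev]; group
    rw [this, mul_assoc _ (d y), ← hcen y x⁻¹, ← mul_assoc]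
  have hδ : δ = 1 := by
    have hQk : Q ≤ δ.ker := fun q hq => by
      show (r : cTh)⁻¹ * ψ q * r * q⁻¹ = 1
      rw [show ψ q = ((resQ ψ ⟨q, hq⟩ : Q) : cTh) from rfl, hQ]
      simp only [Subgroup.coe_mul, Subgroup.coe_inv]
      group
    haveI := finite_cTh
    haveI := finite_Q
    haveI := alternatingGroup.isSimpleGroup (α := Fin 9) (by simp)
    have hkr : Nat.card δ.range ≤ 2 := by
      haveI := finite_cTh
      have hsub : (δ.range : Set cTh) ⊆ {1, (qg 0 : cTh)} := by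
        rintro _ ⟨x, rfl⟩
        exact hd x
      calc Nat.card δ.range = Set.ncard (δ.range : Set cTh) := (Nat.card_coe_set_eq _)
        _ ≤ Set.ncard ({1, (qg 0 : cTh)} : Set cTh) := Set.ncard_le_ncard hsub (Set.toFinite _)
        _ ≤ 2 := (Set.ncard_insert_le _ _).trans (by simp)
    have hc := Subgroup.card_eq_card_quotient_mul_card_subgroup δ.ker
    rw [Nat.card_congr (QuotientGroup.quotientKerEquivRange δ).toEquiv, cTh_order.1] at hc
    rcases ((inferInstance : δ.ker.Normal).map cHom cHom_surj).eq_bot_or_eq_top with e | e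
    · exfalso
      have hle : δ.ker ≤ Q := fun x hx => MonoidHom.mem_ker.2 (Subgroup.mem_bot.1 (e ▸ ⟨x, hx, rfl⟩))
      rw [le_antisymm hle hQk, card_Q] at hc
      omega
    · refine MonoidHom.ext fun x => ?_
      obtain ⟨y, hy, ey⟩ : cHom x ∈ δ.ker.map cHom := e ▸ Subgroup.mem_top _
      have hm : y⁻¹ * x ∈ Q := MonoidHom.mem_ker.2 (by rw [map_mul, map_inv, ey, inv_mul_cancel])
      have : x ∈ δ.ker := by
        have := δ.ker.mul_mem hy (hQk hm)
        rwa [mul_inv_cancel_left] at this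
      exact this
  refine ⟨r, fun x => ?_⟩
  have := DFunLike.congr_fun hδ x
  change (r : cTh)⁻¹ * ψ x * r * x⁻¹ = 1 at this
  rw [mul_inv_eq_one] at this
  calc ψ x = (r : cTh) * ((r : cTh)⁻¹ * ψ x * r) * (r : cTh)⁻¹ := by group
    _ = _ := by rw [this]
where
  pair_inv : ∀ i < 9, 0 < i → 0 < cqPair i ∧ cqPair i < 9 ∧ cqPair (cqPair i) = i := by decide +kernel

/-- Every automorphism of the centraliser fixing the central involution is inner. -/
theorem cTh_inner (ψ : MulAut cTh) (ha : ψ (qg 0 : cTh) = qg 0) : ∃ y : cTh, ∀ x, ψ x = y * x * y⁻¹ := by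
  let e := QuotientGroup.quotientKerEquivOfSurjective cHom cHom_surj
  let α : MulAut (alternatingGroup (Fin 9)) :=
    e.symm.trans ((QuotientGroup.congr Q Q ψ (map_Q ψ)).trans e)
  have hα : ∀ x, α (cHom x) = cHom (ψ x) := fun x => by
    have he : e.symm (cHom x) = (x : cTh ⧸ Q) := e.symm_apply_eq.2 rfl
    show e (QuotientGroup.congr Q Q ψ (map_Q ψ) (e.symm (cHom x))) = _
    rw [he]
    rfl
  obtain ⟨σ, hσ⟩ := (Cfsg.Lib.SolvStruct.AltAut.conjNormal_bijective (n := 9) (by norm_num) (by norm_num)).2 α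
  have hc : ∀ x, (cHom (ψ x) : Perm (Fin 9)) = σ * (cHom x : Perm (Fin 9)) * σ⁻¹ := fun x => by
    rw [← hα, ← hσ, MulAut.conjNormal_apply]
  have adjust : ∀ c : cTh, ∀ x, (MulAut.conj c⁻¹ * ψ : MulAut cTh) x = c⁻¹ * ψ x * c := fun c x => by
    simp [MulAut.mul_apply]
  have hfix : ∀ c : cTh, (MulAut.conj c⁻¹ * ψ : MulAut cTh) (qg 0 : cTh) = qg 0 := fun c => by
    rw [adjust, ha, mul_assoc, ← qg_zero_central, inv_mul_cancel_left]
  rcases Int.units_eq_one_or (Perm.sign σ) with hs | hs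
  · obtain ⟨c, hcc⟩ := cHom_surj ⟨σ, Perm.mem_alternatingGroup.2 hs⟩
    obtain ⟨y, hy⟩ := untwisted_inner _ (hfix c) fun x => Subtype.ext (by
      rw [adjust, map_mul, map_mul, map_inv, Subgroup.coe_mul, Subgroup.coe_mul, Subgroup.coe_inv, hc, hcc]
      simp [mul_assoc])
    refine ⟨c * y, fun x => ?_⟩
    have := hy x
    rw [adjust] at this
    calc ψ x = c * (c⁻¹ * ψ x * c) * c⁻¹ := by group
      _ = _ := by rw [this]; group
  · exfalso
    obtain ⟨c, hcc⟩ := cHom_surj ⟨σ * Equiv.swap 0 1, Perm.mem_alternatingGroup.2 (by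
      rw [Perm.sign_mul, hs, Perm.sign_swap (by decide)]; rfl)⟩
    refine not_twisted _ (hfix c) fun x => ?_
    rw [adjust, map_mul, map_mul, map_inv, Subgroup.coe_mul, Subgroup.coe_mul, Subgroup.coe_inv, hc, hcc]
    simp [mul_assoc]

/-- An automorphism followed by a conjugation fixes the first generator. -/
theorem exists_conj_fix (φ : MulAut Spor.Th) : ∃ g : Spor.Th, (MulAut.conj g * φ : MulAut Spor.Th) (tg 0) = tg 0 := by
  haveI := finite_Th
  haveI := finite_cTh
  haveI : Fact (Nat.Prime 2) := ⟨Nat.prime_two⟩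
  obtain ⟨S⟩ : Nonempty (Sylow 2 cTh) := inferInstance
  have hQS : Q ≤ (S : Subgroup cTh) := (IsPGroup.of_card card_Q).le_sylow_of_normal S
  have hT : Nat.card ((S : Subgroup cTh).map cTh.subtype) = 2 ^ (Nat.card Spor.Th).factorization 2 := by
    rw [Subgroup.card_map_of_injective cTh.subtype_injective, S.card_eq_multiplicity, cTh_order.1, th_facts.2.1,
      fac_small.1, fac_small.2]
  let T : Sylow 2 Spor.Th := Sylow.ofCard _ hT
  let T' : Sylow 2 Spor.Th := Sylow.ofCard ((T : Subgroup Spor.Th).map φ.toMonoidHom)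
    (by rw [Subgroup.card_map_of_injective φ.injective]; exact T.card_eq_multiplicity)
  obtain ⟨g, hg⟩ := MulAction.exists_smul_eq Spor.Th T' T
  refine ⟨g, ?_⟩
  set ψ : MulAut Spor.Th := MulAut.conj g * φ with hψ
  have hmap : (T : Subgroup Spor.Th).map ψ.toMonoidHom = T := by
    conv_rhs => rw [← hg]
    rw [Sylow.coe_subgroup_smul, Subgroup.pointwise_smul_def]
    show _ = ((T : Subgroup Spor.Th).map φ.toMonoidHom).map (MulAut.conj g).toMonoidHom
    rw [Subgroup.map_map]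
    rfl
  have haT : tg 0 ∈ (T : Subgroup Spor.Th) :=
    ⟨(qg 0 : cTh), hQS (qg 0).2, qg_zero⟩
  have hψa : ψ (tg 0) ∈ (T : Subgroup Spor.Th) := hmap ▸ ⟨_, haT, rfl⟩
  obtain ⟨x, hx, ex⟩ := hψa
  have hxc : ∀ y ∈ (T : Subgroup Spor.Th), y * ψ (tg 0) = ψ (tg 0) * y := by
    intro y hy
    rw [← hmap] at hy
    obtain ⟨z, hz, rfl⟩ := hy
    obtain ⟨z', -, rfl⟩ := hz
    show ψ _ * ψ _ = ψ _ * ψ _
    rw [← map_mul, ← map_mul]
    exact congrArg ψ (mem_cTh.1 z'.2)
  have hne : ψ (tg 0) ≠ 1 := fun e => by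
    have h := tg_zero_order
    rw [ψ.injective (e.trans (map_one ψ).symm), orderOf_one] at h
    norm_num at h
  rcases centralizing (x := x) fun q => Subtype.ext (by
    rw [Subgroup.coe_mul, Subgroup.coe_mul]
    show cTh.subtype x * _ = _ * cTh.subtype x
    rw [ex]
    exact (hxc _ ⟨(q : cTh), hQS q.2, rfl⟩).symm) with e | e
  · exfalso
    rw [e, map_one] at ex
    exact hne ex.symm
  · rw [← ex, e]
    exact qg_zero
where
  fac_small : (92897280 : ℕ).factorization 2 = 15 ∧ (90745943887872000 : ℕ).factorization 2 = 15 := by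
    have key : ∀ n k : ℕ, n ≠ 0 → 2 ^ k ∣ n → ¬2 ^ (k + 1) ∣ n → n.factorization 2 = k := fun n k hn h1 h2 => by
      rw [Nat.Prime.pow_dvd_iff_le_factorization Nat.prime_two hn] at h1 h2
      omega
    exact ⟨key _ _ (by norm_num) (by norm_num) (by norm_num), key _ _ (by norm_num) (by norm_num) (by norm_num)⟩

theorem gens_rels : Nat.beq (wmat [2, 2]) one248 = true ∧ Nat.beq (wmat [0, 2, 0, 2, 0, 2]) one248 = true ∧
    Nat.beq (wmat [2, 0]) one248 = false ∧
    (∀ i ∈ [3, 4, 5, 6], Nat.beq (wmat [2 * i, 2]) (wmat [2, 2 * i]) = true) := by decide +kernel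

theorem thEl_eq {w w' : List ℕ} (hw : ∀ x ∈ w, x < 16) (hw' : ∀ x ∈ w', x < 16)
    (h : Nat.beq (wmat w) (wmat w') = true) : thEl w = thEl w' := by
  refine rho_injective ?_
  rw [rho_thEl hw, rho_thEl hw']
  refine Units.ext ?_
  rw [← (wmat_spec hw).2, ← (wmat_spec hw').2, Nat.eq_of_beq_eq_true h]

theorem tb_facts : tg 1 * tg 1 = 1 ∧ (tg 0 * tg 1) ^ 3 = 1 ∧ tg 1 ≠ tg 0 ∧
    ∀ i ∈ [3, 4, 5, 6], tg i * tg 1 = tg 1 * tg i := by
  obtain ⟨h1, h2, h3, h4⟩ := gens_rels
  have ev : ∀ i < 8, thEl [2 * i] = tg i := fun i hi => rho_injective (by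
    rw [rho_thEl (by simp; omega), rho_tg hi]; simp)
  have one : thEl [] = 1 := rfl
  have cons : ∀ a w, thEl (a :: w) = thEl [a] * thEl w := fun a w => by simp [thEl, wordVal]
  have e0 := ev 0 (by norm_num)
  have e1 := ev 1 (by norm_num)
  simp only [Nat.mul_zero, Nat.mul_one] at e0 e1
  have z := fun {w : List ℕ} (hw : ∀ x ∈ w, x < 16) (h : Nat.beq (wmat w) one248 = true) =>
    (show thEl w = 1 from rho_injective (by rw [rho_thEl hw, wmat_one hw h, map_one]))
  refine ⟨?_, ?_, fun e => ?_, fun i hi => ?_⟩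
  · have := z (w := [2, 2]) (by decide) h1
    rwa [cons, e1] at this
  · have := z (w := [0, 2, 0, 2, 0, 2]) (by decide) h2
    simpa [thEl, wordVal, signed_tgen, sgn, pow_succ, mul_assoc] using this
  · refine wmat_ne_one (w := [2, 0]) (by decide) h3 ?_
    rw [← rho_thEl (by decide), cons, e1, e0, ← e]
    have h11 := z (w := [2, 2]) (by decide) h1
    rw [cons, e1] at h11
    rw [h11, map_one]
  · have hi8 : i < 8 := (show ∀ i ∈ [3, 4, 5, 6], i < 8 by decide) i hi
    have := thEl_eq (w := [2 * i, 2]) (w' := [2, 2 * i]) (by simp; omega) (by simp; omega) (h4 i hi)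
    simpa [thEl, wordVal, signed_tgen, sgn] using this

/-- The automorphism fixing the centraliser and moving the second generator is inner. -/
theorem fix_cTh_inner (φ : MulAut Spor.Th) (h : ∀ x : cTh, φ x = x) : φ ∈ Inn Spor.Th := by
  have hl : ∀ i < 8, i ≠ 1 → tg i ∈ cTh := by
    intro i hi h1
    obtain ⟨g, hg, e⟩ := cover i hi h1
    rw [← e, ← lt_val hg]
    exact (lt g).2
  have hfix : ∀ i < 8, i ≠ 1 → φ (tg i) = tg i := fun i hi h1 => h ⟨_, hl i hi h1⟩
  obtain ⟨b2, ab3, bne, bc⟩ := tb_facts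
  have h0 := hfix 0 (by norm_num) (by norm_num)
  have hx := cent_cases (x := φ (tg 1)) (by rw [← map_mul, b2, map_one])
    (by rw [← h0, ← map_mul, ← map_pow, ab3, map_one]) fun i hi => by
      have h2 : i < 8 ∧ i ≠ 1 := (show ∀ i ∈ [3, 4, 5, 6], i < 8 ∧ i ≠ 1 by decide) i hi
      rw [← hfix i h2.1 h2.2, ← map_mul, bc i hi, map_mul]
  have a2 : tg 0 * tg 0 = 1 := by
    have := pow_orderOf_eq_one (tg 0)
    rwa [tg_zero_order, pow_two] at this
  obtain ⟨g, hg⟩ : ∃ g ∈ cTh, φ (tg 1) = g * tg 1 * g⁻¹ ∧ ∀ x ∈ cTh, g * x * g⁻¹ = x := by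
    rcases hx with e | e | e
    · exact absurd (φ.injective (e.trans h0.symm)) bne
    · exact ⟨1, cTh.one_mem, by simpa using e, by simp⟩
    · refine ⟨tg 0, hl 0 (by norm_num) (by norm_num), by rw [e, inv_eq_of_mul_eq_one_right a2], fun x hx => ?_⟩
      rw [← mem_cTh.1 hx, mul_inv_cancel_right]
  refine ⟨g, ?_⟩
  refine MulEquiv.ext fun y => ?_
  have : (MulAut.conj g : MulAut Spor.Th).toMonoidHom = φ.toMonoidHom := by
    refine PresentedGroup.ext fun z => ?_
    obtain ⟨i, hi, ez⟩ := gen_cover z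
    show g * tgen z * g⁻¹ = φ (tgen z)
    rw [ez, show tgen (genList.getD i .a) = tg i from rfl]
    by_cases h1 : i = 1
    · subst h1; exact hg.2.1.symm
    · rw [hfix i hi h1]; exact hg.2.2 _ (hl i hi h1)
  exact DFunLike.congr_fun this y
where
  cover : ∀ i < 8, i ≠ 1 → ∃ g < 7, cLets.getD g 0 / 2 = i := by decide +kernel
  gen_cover (z : Spor.Th.Gen) : ∃ i < 8, z = genList.getD i .a :=
    ⟨genIdx z, by cases z <;> decide, by cases z <;> rfl⟩

/-- Every automorphism is inner. -/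
theorem all_inner (φ : MulAut Spor.Th) : φ ∈ Inn Spor.Th := by
  obtain ⟨g, hg⟩ := exists_conj_fix φ
  set ψ : MulAut Spor.Th := MulAut.conj g * φ
  have hmap : cTh.map ψ.toMonoidHom = cTh := by
    haveI := finite_cTh
    haveI := finite_Th
    refine Subgroup.eq_of_le_of_card_ge ?_ (by rw [Subgroup.card_map_of_injective ψ.injective])
    rintro _ ⟨x, hx, rfl⟩
    rw [mem_cTh]
    show ψ x * tg 0 = tg 0 * ψ x
    conv_lhs => rw [← hg]
    conv_rhs => rw [← hg]
    rw [← map_mul, ← map_mul, mem_cTh.1 hx]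
  let ψC : MulAut cTh := (ψ.subgroupMap cTh).trans (MulEquiv.subgroupCongr hmap)
  obtain ⟨y, hy⟩ := cTh_inner ψC (Subtype.ext (by
    show ψ ((qg 0 : cTh) : Spor.Th) = ((qg 0 : cTh) : Spor.Th)
    rw [qg_zero, hg]))
  have hfix := fix_cTh_inner (MulAut.conj (y : Spor.Th)⁻¹ * ψ) fun x => by
    have e : ψ (x : Spor.Th) = (y : Spor.Th) * x * (y : Spor.Th)⁻¹ := congrArg Subtype.val (hy x)
    simp [MulAut.mul_apply, e, mul_assoc]
  have h1 : (MulAut.conj (y : Spor.Th)⁻¹ : MulAut Spor.Th) ∈ Inn Spor.Th := ⟨_, rfl⟩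
  have h2 : (MulAut.conj g : MulAut Spor.Th) ∈ Inn Spor.Th := ⟨_, rfl⟩
  exact (Subgroup.mul_mem_cancel_left _ h2).1 ((Subgroup.mul_mem_cancel_left _ h1).1 hfix)

theorem card_out : Nat.card (Out Spor.Th) = 1 := by
  show (Inn Spor.Th).index = 1
  rw [Subgroup.index_eq_one, eq_top_iff]
  exact fun φ _ => all_inner φ

end Cfsg.Lib.ThOut
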