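import Cfsg.Agent.ThRep.CentChk

/-!
Tables for the signs of the normal subgroup of order 512 on the lines of the centraliser of an involution.
-/

set_option autoImplicit false
set_option maxRecDepth 100000
set_option exponentiation.threshold 3000
set_option Elab.async false

namespace Cfsg.Lib.ThOut

open Cfsg.Lib.ThRep

/-- The signs of the members of the series on the lines, as bits. -/
def chiTab : List ℕ :=
  [384, 448, 416, 96, 352, 224, 400, 464, 432, 112, 368, 240, 392, 456, 424, 104, 360, 232, 24, 280,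
   152, 88, 344, 216, 56, 312, 184, 504, 388, 452, 420, 100, 356, 228, 404, 468, 436, 116, 372, 244,
   396, 460, 428, 108, 364, 236, 28, 284, 156, 92, 348, 220, 60, 316, 188, 508, 386, 450, 418, 98,
   354, 226, 402, 466, 434, 114, 370, 242, 394, 458, 426, 106, 362, 234, 26, 282, 154, 90, 346, 218,
   58, 314, 186, 506, 6, 262, 134, 70, 326, 198, 38, 294, 166, 486, 22, 278, 150, 86, 342, 214,
   54, 310, 182, 502, 14, 270, 142, 78, 334, 206, 46, 302, 174, 494, 414, 478, 446, 126, 382, 254]

/-- The coordinates of a sign pattern in the eight lines. -/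
def spanSol : List ℕ :=
  [0, 129, 65, 192, 33, 160, 96, 225, 17, 144, 80, 209, 48, 177, 113, 240, 5, 132, 68, 197,
   36, 165, 101, 228, 20, 149, 85, 212, 53, 180, 116, 245, 3, 130, 66, 195, 34, 163, 99, 226,
   18, 147, 83, 210, 51, 178, 114, 243, 6, 135, 71, 198, 39, 166, 102, 231, 23, 150, 86, 215,
   54, 183, 119, 246, 15, 142, 78, 207, 46, 175, 111, 238, 30, 159, 95, 222, 63, 190, 126, 255,
   10, 139, 75, 202, 43, 170, 106, 235, 27, 154, 90, 219, 58, 187, 123, 250, 12, 141, 77, 204,
   45, 172, 108, 237, 29, 156, 92, 221, 60, 189, 125, 252, 9, 136, 72, 201, 40, 169, 105, 232,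
   24, 153, 89, 216, 57, 184, 120, 249, 14, 143, 79, 206, 47, 174, 110, 239, 31, 158, 94, 223,
   62, 191, 127, 254, 11, 138, 74, 203, 42, 171, 107, 234, 26, 155, 91, 218, 59, 186, 122, 251,
   13, 140, 76, 205, 44, 173, 109, 236, 28, 157, 93, 220, 61, 188, 124, 253, 8, 137, 73, 200,
   41, 168, 104, 233, 25, 152, 88, 217, 56, 185, 121, 248, 1, 128, 64, 193, 32, 161, 97, 224,
   16, 145, 81, 208, 49, 176, 112, 241, 4, 133, 69, 196, 37, 164, 100, 229, 21, 148, 84, 213,
   52, 181, 117, 244, 2, 131, 67, 194, 35, 162, 98, 227, 19, 146, 82, 211, 50, 179, 115, 242,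
   7, 134, 70, 199, 38, 167, 103, 230, 22, 151, 87, 214, 55, 182, 118, 247]

/-- The product of members with prescribed signs on the eight lines. -/
def dualSol : List ℕ :=
  [0, 127, 224, 159, 208, 175, 48, 79, 192, 191, 32, 95, 16, 111, 240, 143, 8, 119, 232, 151,
   216, 167, 56, 71, 200, 183, 40, 87, 24, 103, 248, 135, 4, 123, 228, 155, 212, 171, 52, 75,
   196, 187, 36, 91, 20, 107, 244, 139, 12, 115, 236, 147, 220, 163, 60, 67, 204, 179, 44, 83,
   28, 99, 252, 131, 2, 125, 226, 157, 210, 173, 50, 77, 194, 189, 34, 93, 18, 109, 242, 141,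
   10, 117, 234, 149, 218, 165, 58, 69, 202, 181, 42, 85, 26, 101, 250, 133, 6, 121, 230, 153,
   214, 169, 54, 73, 198, 185, 38, 89, 22, 105, 246, 137, 14, 113, 238, 145, 222, 161, 62, 65,
   206, 177, 46, 81, 30, 97, 254, 129, 1, 126, 225, 158, 209, 174, 49, 78, 193, 190, 33, 94,
   17, 110, 241, 142, 9, 118, 233, 150, 217, 166, 57, 70, 201, 182, 41, 86, 25, 102, 249, 134,
   5, 122, 229, 154, 213, 170, 53, 74, 197, 186, 37, 90, 21, 106, 245, 138, 13, 114, 237, 146,
   221, 162, 61, 66, 205, 178, 45, 82, 29, 98, 253, 130, 3, 124, 227, 156, 211, 172, 51, 76,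
   195, 188, 35, 92, 19, 108, 243, 140, 11, 116, 235, 148, 219, 164, 59, 68, 203, 180, 43, 84,
   27, 100, 251, 132, 7, 120, 231, 152, 215, 168, 55, 72, 199, 184, 39, 88, 23, 104, 247, 136,
   15, 112, 239, 144, 223, 160, 63, 64, 207, 176, 47, 80, 31, 96, 255, 128]

/-- Eight lines. -/
def baseL : List ℕ := [0, 1, 2, 4, 6, 12, 28, 56]

/-- A line among the eight. -/
def baseB (k : ℕ) : ℕ := baseL.getD k 0

/-- Words leading from the first line to the eight. -/
def baseW : List (List ℕ) :=
  [[], [4, 4, 4, 6], [6, 4, 4, 3], [2, 3, 5], [6, 4, 2, 5], [2, 5], [6, 2, 4, 6, 4], [2, 3, 2, 5]]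

/-- Two words fixing the first line. -/
def hW : List (List ℕ) := [[4, 5, 4], [3, 2, 6, 4, 6]]

/-- The same two, twisted by a transposition. -/
def kW : List (List ℕ) := [[4, 5, 4], [6, 2, 3, 4, 6]]

/-- A bit. -/
def bitN (n k : ℕ) : Bool := Nat.beq (Nat.mod (Nat.shiftRight n k) 2) 1

/-- The sum of chosen bits. -/
def xorSel (b c : ℕ → Bool) (L : List ℕ) : Bool := L.foldr (fun k acc => xor (b k && c k) acc) false

/-- A bit of a sign pattern. -/
def chiBit (i l : ℕ) : Bool := bitN (chiTab.getD i 0) l

/-- The image of a line under a word. -/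
def imgW : List ℕ → ℕ → ℕ
  | [], i => i
  | g :: w, i => imgW w (Nat.div ((cImg.getD g []).getD i 0) 2)

/-- A bit of a combination of the eight lines moved by a word. -/
def combBit (w : List ℕ) (m l : ℕ) : Bool :=
  xorSel (bitN m) (fun k => chiBit (imgW w (baseB k)) l) (List.range 8)

/-- A combination is fixed by a word. -/
def invOK (w : List ℕ) (m : ℕ) : Bool := (List.range 9).all fun l => combBit w m l == combBit [] m l

/-- The signs are as listed. -/
noncomputable def signOK (k : ℕ) : Bool :=
  (List.range 120).all fun i => Nat.beq (prodG 1 (cLines.getD i 0) (cqMats.getD k []))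
    (bif chiBit i k then negV (cLines.getD i 0) else cLines.getD i 0)

/-- A transposition as a list. -/
def tauL : List ℕ := [1, 0, 2, 3, 4, 5, 6, 7, 8]

/-- The listed permutation of a word in the generators. -/
def permW : List ℕ → List ℕ
  | [] => idP
  | g :: w => mulP (cPerm.getD g idP) (permW w)

theorem sign_chk : ∀ k < 9, signOK k = true := by decide +kernel

theorem line_signed : ((List.range 120).all fun i =>
    !Nat.beq (cLines.getD i 0) (negV (cLines.getD i 0))) = true := by decide +kernel

theorem span_chk : ∀ c < 256, spanSol.getD c 0 < 256 ∧ combBit [] (spanSol.getD c 0) 0 = false ∧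
    ∀ l < 8, combBit [] (spanSol.getD c 0) (l + 1) = bitN c l := by decide +kernel

theorem dual_chk : ∀ c < 256, ∀ k < 8,
    xorSel (bitN (dualSol.getD c 0)) (fun l => chiBit (baseB k) (l + 1)) (List.range 8) = bitN c k := by
  decide +kernel

theorem h_inv_chk : ((List.range 256).all fun m => !(hW.all fun w => invOK w m) ||
    ((List.range 9).all fun l => combBit [] m l == false) ||
    ((List.range 9).all fun l => combBit [] m l == chiBit 0 l)) = true := by decide +kernel

theorem k_inv_chk : ((List.range 256).all fun m => !(kW.all fun w => invOK w m) ||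
    ((List.range 9).all fun l => combBit [] m l == false)) = true := by decide +kernel

theorem chi0_facts : chiBit 0 0 = false ∧ chiBit 0 7 = true := by decide +kernel

theorem word_facts : (∀ w ∈ hW ++ kW ++ baseW, ∀ g ∈ w, g < 7) ∧ (∀ w ∈ hW, imgW w 0 = 0) ∧
    (∀ k < 8, baseB k < 120 ∧ imgW (baseW.getD k []) 0 = baseB k) ∧
    (∀ t < 2, permW (kW.getD t []) = mulP (mulP tauL (permW (hW.getD t []))) tauL) := by decide +kernel

end Cfsg.Lib.ThOut
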