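import Cfsg.Agent.ThRep.CentExtra
import Cfsg.Agent.ThOut.Tables

/-!
The characters by which the normal subgroup of order 512 of the centraliser of an involution of the
presented Thompson group acts on 120 lines.
-/

set_option autoImplicit false
set_option maxRecDepth 100000
set_option exponentiation.threshold 3000

namespace Cfsg.Lib.ThOut

open Equiv Cfsg Cfsg.Lib.ThCert Cfsg.Lib.ThRep

attribute [local irreducible] mm3 prodG wmat one248 gM gEl redAll redOK relsOK sepOK linkOK letGL signOK

/-- The group of two signs. -/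
abbrev U : Type := (ZMod 3)ˣ

/-- A sign of a bit. -/
def bu (b : Bool) : U := if b then -1 else 1

theorem bu_xor : ∀ a b : Bool, bu (xor a b) = bu a * bu b := by decide

theorem bu_inj : ∀ a b : Bool, bu a = bu b → a = b := by decide

theorem bu_surj : ∀ s : U, s = bu (decide (s = -1)) := by decide

theorem u_cases : ∀ s : U, s = 1 ∨ s = -1 := by decide

theorem bu_false : bu false = 1 := rfl

theorem map_sel {M : Type*} [Monoid M] (F : M →* U) (b c : ℕ → Bool) (g : ℕ → M) : ∀ L : List ℕ,
    (∀ l ∈ L, F (g l) = bu (c l)) → F (L.map fun l => if b l then g l else 1).prod = bu (xorSel b c L)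
  | [], _ => by simp [xorSel, bu_false]
  | l :: L, h => by
    have e : xorSel b c (l :: L) = xor (b l && c l) (xorSel b c L) := rfl
    rw [e, bu_xor, List.map_cons, List.prod_cons, map_mul,
      map_sel F b c g L fun k hk => h k (List.mem_cons_of_mem l hk)]
    congr 1
    cases b l
    · simp [bu_false]
    · simp [h l List.mem_cons_self]

/-- The number of a list of bits. -/
def encB : List Bool → ℕ
  | [] => 0
  | b :: L => (if b then 1 else 0) + 2 * encB L

theorem encB_spec : ∀ (L : List Bool), encB L < 2 ^ L.length ∧ ∀ k, bitN (encB L) k = L.getD k false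
  | [] => ⟨by simp [encB], fun k => by
      show Nat.beq ((0 >>> k) % 2) 1 = _
      simp only [Nat.zero_shiftRight, Nat.zero_mod, List.getD_nil]
      rfl⟩
  | b :: L => by
    obtain ⟨h1, h2⟩ := encB_spec L
    refine ⟨by cases b <;> simp [encB, pow_succ] <;> omega, fun k => ?_⟩
    cases k with
    | zero =>
      show Nat.beq ((((if b then 1 else 0) + 2 * encB L) >>> 0) % 2) 1 = b
      cases b <;> simp <;> rfl
    | succ k =>
      rw [List.getD_cons_succ, ← h2 k]
      show Nat.beq ((((if b then 1 else 0) + 2 * encB L) >>> (k + 1)) % 2) 1 = Nat.beq ((encB L >>> k) % 2) 1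
      rw [add_comm k 1, Nat.shiftRight_add,
        show ((if b then 1 else 0) + 2 * encB L) >>> 1 = encB L by cases b <;> simp [Nat.shiftRight_eq_div_pow] <;> omega]

theorem exists_code (v : ℕ → Bool) : ∃ c < 256, ∀ k < 8, bitN c k = v k := by
  obtain ⟨h1, h2⟩ := encB_spec ((List.range 8).map v)
  refine ⟨_, by simpa using h1, fun k hk => ?_⟩
  rw [h2, List.getD_eq_getElem _ _ (by simpa using hk), List.getElem_map, List.getElem_range]

/-- The normal subgroup of order 512. -/
noncomputable abbrev Q : Subgroup cTh := cHom.ker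

theorem pair_mem (g : ℕ) (hg : g < 7) : cPair g ∈ cGamma := Subgroup.subset_closure ⟨g, hg, rfl⟩

/-- A member of the series in the centraliser. -/
noncomputable def qc (k : ℕ) : cTh :=
  if h : k < 9 then cEquiv.symm ⟨(gEl cqWords k, 1), cq_in_ker h⟩ else 1

/-- A generator of the centraliser. -/
noncomputable def lt (g : ℕ) : cTh :=
  if h : g < 7 then cEquiv.symm ⟨cPair g, pair_mem g h⟩ else 1

theorem cHom_apply (x : cTh) : cHom x = (cEquiv x).1.2 := gSnd_apply _

theorem qc_rho {k : ℕ} (hk : k < 9) : rho (qc k : Spor.Th) = gEl cqWords k ∧ qc k ∈ Q := by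
  refine ⟨?_, MonoidHom.mem_ker.2 ?_⟩
  · rw [← cEquiv_fst, qc, dif_pos hk, MulEquiv.apply_symm_apply]
  · rw [cHom_apply, qc, dif_pos hk, MulEquiv.apply_symm_apply]

theorem lt_rho {g : ℕ} (hg : g < 7) :
    rho (lt g : Spor.Th) = letGL (cLets.getD g 0) ∧ (cHom (lt g) : Perm (Fin 9)) = pgen g := by
  refine ⟨?_, ?_⟩
  · rw [← cEquiv_fst, lt, dif_pos hg, MulEquiv.apply_symm_apply]
    rfl
  · rw [cHom_apply, lt, dif_pos hg, MulEquiv.apply_symm_apply]
    simp [cPair, hg]

/-- A member of the series in the normal subgroup. -/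
noncomputable def qg (k : ℕ) : Q := if h : k < 9 then ⟨qc k, (qc_rho h).2⟩ else 1

/-- The embedding in the matrices. -/
noncomputable def rhoQ : Q →* GL (Fin 248) (ZMod 3) := rho.comp (cTh.subtype.comp Q.subtype)

theorem rhoQ_inj : Function.Injective rhoQ := fun _ _ e => Subtype.ext (Subtype.ext (rho_injective e))

theorem rhoQ_qg {k : ℕ} (hk : k < 9) : rhoQ (qg k) = gEl cqWords k := by
  show rho ((qg k : cTh) : Spor.Th) = _
  rw [qg, dif_pos hk]
  exact (qc_rho hk).1

theorem card_Q : Nat.card Q = 2 ^ 9 := cHom_ker.1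

theorem qg_top : headSub qg 9 = ⊤ := by
  haveI : Finite Q := Nat.finite_of_card_ne_zero (by rw [card_Q]; norm_num)
  refine Subgroup.eq_top_of_card_eq _ ?_
  rw [← Subgroup.card_map_of_injective (f := rhoQ) rhoQ_inj, card_Q, ← cq_card, headSub, MonoidHom.map_closure,
    Set.image_image]
  exact congrArg (fun S => Nat.card (Subgroup.closure S)) (Set.image_congr fun k hk => rhoQ_qg hk)

theorem hom_ext_Q {M : Type*} [Monoid M] {f g : Q →* M} (h : ∀ k < 9, f (qg k) = g (qg k)) : f = g := by
  refine MonoidHom.eq_of_eqOn_dense (s := qg '' Set.Iio 9) qg_top ?_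
  rintro _ ⟨k, hk, rfl⟩
  exact h k hk

theorem rho_tg {i : ℕ} (hi : i < 8) : rho (tg i) = letGL (2 * i) := by
  show rho (tgen (genList.getD i .a)) = _
  rw [rho_tgen, vGen, genIdx_getD hi]

theorem lt_val {g : ℕ} (hg : g < 7) : (lt g : Spor.Th) = tg (cLets.getD g 0 / 2) :=
  rho_injective (by
    rw [(lt_rho hg).1, rho_tg (cLets_half g hg).1, (cLets_half g hg).2])
where
  cLets_half : ∀ g < 7, cLets.getD g 0 / 2 < 8 ∧ 2 * (cLets.getD g 0 / 2) = cLets.getD g 0 := by decide +kernel

theorem qg_zero : ((qg 0 : cTh) : Spor.Th) = tg 0 := rho_injective (by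
  have := rhoQ_qg (show 0 < 9 by norm_num)
  rw [rho_tg (by norm_num)]
  refine this.trans ?_
  unfold gEl
  rw [cq_head]
  simp)

theorem line_sign {i : ℕ} (hi : i < 120) {s t : U}
    (h : (s : ZMod 3) • lineM i = (t : ZMod 3) • lineM i) : s = t := by
  have hne : lineM i ≠ -lineM i := fun e => by
    obtain ⟨r, r'⟩ := negV_spec (line_red hi)
    have hb := List.all_eq_true.1 line_signed i (List.mem_range.2 hi)
    rw [Bool.not_eq_true'] at hb
    exact Nat.ne_of_beq_eq_false hb (toMN_inj (line_red hi) r (e.trans r'.symm))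
  rcases u_cases s with rfl | rfl <;> rcases u_cases t with rfl | rfl
  · rfl
  · exact absurd (by simpa using h) hne
  · exact absurd (by simpa using h.symm) hne
  · rfl

theorem qg_line {k i : ℕ} (hk : k < 9) (hi : i < 120) :
    lineM i * (rhoQ (qg k)).val = (bu (chiBit i k) : ZMod 3) • lineM i := by
  have h := Nat.eq_of_beq_eq_true (List.all_eq_true.1 (sign_chk' k hk) i (List.mem_range.2 hi))
  obtain ⟨l, b, -, e, -⟩ := link_spec cq_link_all hk
  obtain ⟨-, e2⟩ := toMN_prod (n := 1) l (line_red hi) b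
  rw [rhoQ_qg hk, ← e]
  refine e2.symm.trans ?_
  rw [h]
  cases chiBit i k
  · simp [bu, lineM]
  · rw [cond_true, (negV_spec (line_red hi)).2]; simp [bu, lineM]
where
  sign_chk' : ∀ k < 9, ((List.range 120).all fun i => Nat.beq (prodG 1 (cLines.getD i 0) (cqMats.getD k []))
      (bif chiBit i k then negV (cLines.getD i 0) else cLines.getD i 0)) = true := by
    intro k hk
    have := sign_chk k hk
    unfold signOK at this
    exact this

theorem sign_exists {i : ℕ} (hi : i < 120) (q : Q) :
    ∃ s : U, lineM i * (rhoQ q).val = (s : ZMod 3) • lineM i := by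
  have hq : q ∈ headSub qg 9 := qg_top ▸ Subgroup.mem_top q
  induction hq using Subgroup.closure_induction with
  | mem y hy => obtain ⟨k, hk, rfl⟩ := hy; exact ⟨_, qg_line hk hi⟩
  | one => exact ⟨1, by simp⟩
  | mul a b _ _ iha ihb =>
    obtain ⟨s, hs⟩ := iha
    obtain ⟨t, ht⟩ := ihb
    exact ⟨s * t, by rw [map_mul, Units.val_mul, ← Matrix.mul_assoc, hs, Matrix.smul_mul, ht, smul_smul, Units.val_mul]⟩
  | inv a _ iha =>
    obtain ⟨s, hs⟩ := iha
    refine ⟨s, ?_⟩
    have h := congrArg (fun M => M * ((rhoQ a)⁻¹).val) hs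
    simp only [Matrix.smul_mul] at h
    rw [Matrix.mul_assoc, ← Units.val_mul, mul_inv_cancel, Units.val_one, Matrix.mul_one] at h
    rw [map_inv]
    have hss : (s : ZMod 3) * (s : ZMod 3) = 1 := by rcases u_cases s with rfl | rfl <;> simp
    conv_rhs => rw [h, smul_smul, hss, one_smul]

theorem rhoQ_def (q : Q) : rhoQ q = rho ((q : cTh) : Spor.Th) := rfl

theorem lineM_def (i : ℕ) : lineM i = toMN 1 (cLines.getD i 0) := rfl

attribute [local irreducible] lineM rhoQ rho cLines cImg cqMats cLets Cfsg.Lib.ThRep.cHom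

/-- The sign of a member on a line, as a value. -/
noncomputable def chiVal (i : ℕ) (q : Q) : U := if hi : i < 120 then (sign_exists hi q).choose else 1

theorem chiVal_spec {i : ℕ} (hi : i < 120) (q : Q) :
    lineM i * (rhoQ q).val = (chiVal i q : ZMod 3) • lineM i := by
  rw [chiVal, dif_pos hi]
  exact (sign_exists hi q).choose_spec

theorem chiVal_mul (i : ℕ) (a b : Q) : chiVal i (a * b) = chiVal i a * chiVal i b := by
  by_cases hi : i < 120
  · refine line_sign hi ?_
    rw [← chiVal_spec hi (a * b), map_mul, Units.val_mul, ← Matrix.mul_assoc, chiVal_spec hi a, Matrix.smul_mul,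
      chiVal_spec hi b, smul_smul, Units.val_mul]
  · simp [chiVal, hi]

/-- The sign of a member on a line. -/
noncomputable def chi (i : ℕ) : Q →* U := MonoidHom.mk' (chiVal i) (chiVal_mul i)

theorem chi_spec {i : ℕ} (hi : i < 120) (q : Q) :
    lineM i * (rhoQ q).val = (chi i q : ZMod 3) • lineM i := chiVal_spec hi q

theorem chi_qg {k i : ℕ} (hk : k < 9) (hi : i < 120) : chi i (qg k) = bu (chiBit i k) :=
  line_sign hi ((chi_spec hi _).symm.trans (qg_line hk hi))

/-- Conjugation inside the normal subgroup. -/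
noncomputable def cjQ (x : cTh) : Q →* Q := (MulAut.conjNormal x : MulAut Q).toMonoidHom

theorem cjQ_val (x : cTh) (q : Q) : (cjQ x q : cTh) = x * q * x⁻¹ := MulAut.conjNormal_apply x q

/-- The action of an element on the lines. -/
def Step (x : cTh) (f : ℕ → ℕ) : Prop :=
  ∀ i < 120, f i < 120 ∧ ∃ s : U, lineM i * (rho (x : Spor.Th)).val = (s : ZMod 3) • lineM (f i)

theorem chi_conj {x : cTh} {f : ℕ → ℕ} (hf : Step x f) {i : ℕ} (hi : i < 120) (q : Q) :
    chi i (cjQ x q) = chi (f i) q := by
  obtain ⟨hj, s, hs⟩ := hf i hi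
  have e : rhoQ (cjQ x q) * rho (x : Spor.Th) = rho (x : Spor.Th) * rhoQ q := by
    rw [rhoQ_def, rhoQ_def]
    rw [← map_mul, ← map_mul, cjQ_val]
    simp [mul_assoc]
  have h := congrArg (fun g : GL (Fin 248) (ZMod 3) => lineM i * g.val) e
  simp only [Units.val_mul, ← Matrix.mul_assoc, chi_spec hi, hs, Matrix.smul_mul, chi_spec hj, smul_smul] at h
  rw [← Units.val_mul, ← Units.val_mul, mul_comm (chi i _)] at h
  exact mul_left_cancel (line_sign hj h)

/-- A product of generators of the centraliser. -/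
noncomputable def el (w : List ℕ) : cTh := (w.map lt).prod

theorem lt_step {g : ℕ} (hg : g < 7) : Step (lt g) fun i => Nat.div ((cImg.getD g []).getD i 0) 2 := by
  intro i hi
  have h := List.all_eq_true.1 (List.all_eq_true.1 img_chk g (List.mem_range.2 hg)) i (List.mem_range.2 hi)
  simp only [Bool.and_eq_true, Nat.blt_eq] at h
  have hx := (cLets_lt g hg).1
  obtain ⟨l1, r1⟩ := rowsOf_ok hx
  obtain ⟨-, e1⟩ := toMN_prod (n := 1) l1 (line_red hi) r1
  rw [← letGL_val hx, ← (lt_rho hg).1, Nat.eq_of_beq_eq_true h.2] at e1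
  have hj : Nat.div ((cImg.getD g []).getD i 0) 2 < 120 := by
    show (cImg.getD g []).getD i 0 / 2 < 120
    omega
  refine ⟨hj, ?_⟩
  unfold lineAt at e1
  rw [← lineM_def] at e1
  cases hb : Nat.beq (Nat.mod ((cImg.getD g []).getD i 0) 2) 0
  · rw [hb, cond_false, (negV_spec (line_red hj)).2, ← lineM_def] at e1
    exact ⟨-1, by refine e1.symm.trans ?_; simp⟩
  · rw [hb, cond_true, ← lineM_def] at e1
    exact ⟨1, by refine e1.symm.trans ?_; simp⟩

theorem el_step : ∀ {w : List ℕ}, (∀ g ∈ w, g < 7) → Step (el w) (imgW w)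
  | [], _ => fun i hi => ⟨hi, 1, by simp [el, imgW]⟩
  | g :: w, hw => fun i hi => by
    obtain ⟨hj, s, hs⟩ := lt_step (hw g List.mem_cons_self) i hi
    obtain ⟨hl, t, ht⟩ := el_step (fun k hk => hw k (List.mem_cons_of_mem g hk)) _ hj
    refine ⟨hl, s * t, ?_⟩
    rw [el, List.map_cons, List.prod_cons, Subgroup.coe_mul, map_mul, Units.val_mul, ← Matrix.mul_assoc, hs,
      Matrix.smul_mul]
    rw [el] at ht
    rw [ht, smul_smul, Units.val_mul]
    rfl

theorem el_perm : ∀ {w : List ℕ}, (∀ g ∈ w, g < 7) → IsP (permW w) (cHom (el w) : Perm (Fin 9))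
  | [], _ => by simp only [el, List.map_nil, List.prod_nil, map_one]; exact IsP.one
  | g :: w, hw => by
    have hg := hw g List.mem_cons_self
    rw [el, List.map_cons, List.prod_cons, map_mul, Subgroup.coe_mul, (lt_rho hg).2]
    exact (pgen_isP hg).1.mul (el_perm fun k hk => hw k (List.mem_cons_of_mem g hk))

/-- A combination of the eight characters moved by a map of the lines. -/
noncomputable def comb (f : ℕ → ℕ) (m : ℕ) : Q →* U :=
  ((List.range 8).map fun k => if bitN m k then chi (f (baseB k)) else 1).prod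

theorem comb_apply (f : ℕ → ℕ) (m : ℕ) (q : Q) :
    comb f m q = ((List.range 8).map fun k => if bitN m k then chi (f (baseB k)) q else 1).prod := by
  have : ∀ L : List ℕ, (L.map fun k => if bitN m k then chi (f (baseB k)) else 1).prod q =
      (L.map fun k => if bitN m k then chi (f (baseB k)) q else 1).prod := by
    intro L
    induction L with
    | nil => simp
    | cons a L ih =>
      simp only [List.map_cons, List.prod_cons, MonoidHom.mul_apply, ih]
      cases bitN m a <;> simp
  exact this _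

theorem baseB_lt {k : ℕ} (hk : k < 8) : baseB k < 120 := (word_facts.2.2.1 k hk).1

theorem comb_qg {w : List ℕ} (hw : ∀ g ∈ w, g < 7) {m l : ℕ} (hl : l < 9) :
    comb (imgW w) m (qg l) = bu (combBit w m l) := by
  refine map_sel (MonoidHom.eval (qg l)) (bitN m) (fun k => chiBit (imgW w (baseB k)) l)
    (fun k => chi (imgW w (baseB k))) (List.range 8) fun k hk => ?_
  exact chi_qg hl (el_step hw _ (baseB_lt (List.mem_range.1 hk))).1

theorem comb_conj {w : List ℕ} (hw : ∀ g ∈ w, g < 7) (m : ℕ) (q : Q) :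
    comb (imgW []) m (cjQ (el w) q) = comb (imgW w) m q := by
  rw [comb_apply, comb_apply]
  refine congrArg List.prod (List.map_congr_left fun k hk => ?_)
  cases bitN m k
  · rfl
  · simp only [if_true]
    exact chi_conj (el_step hw) (baseB_lt (List.mem_range.1 hk)) q

/-- Every sign pattern trivial on the central involution is a combination. -/
theorem span_hom {ψ : Q →* U} (h0 : ψ (qg 0) = 1) : ∃ m < 256, ψ = comb (imgW []) m := by
  obtain ⟨c, hc, hv⟩ := exists_code fun l => decide (ψ (qg (l + 1)) = -1)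
  obtain ⟨hm, hz, hb⟩ := span_chk c hc
  refine ⟨_, hm, hom_ext_Q fun k hk => ?_⟩
  rw [comb_qg (by simp) hk]
  cases k with
  | zero => rw [hz, h0]; rfl
  | succ l => rw [hb l (by omega), hv l (by omega)]; exact bu_surj _

theorem inv_ok {w : List ℕ} (hw : ∀ g ∈ w, g < 7) {m : ℕ}
    (h : ∀ q, comb (imgW []) m (cjQ (el w) q) = comb (imgW []) m q) : invOK w m = true := by
  refine List.all_eq_true.2 fun l hl => beq_iff_eq.2 (bu_inj _ _ ?_)
  have hl' := List.mem_range.1 hl
  rw [← comb_qg hw hl', ← comb_qg (by simp) hl', ← comb_conj hw, h]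

theorem comb_const {m : ℕ} {c : ℕ → Bool} (h : ((List.range 9).all fun l => combBit [] m l == c l) = true)
    {ψ : Q →* U} (hψ : ∀ l < 9, ψ (qg l) = bu (c l)) : comb (imgW []) m = ψ := by
  refine hom_ext_Q fun l hl => ?_
  rw [comb_qg (by simp) hl, hψ l hl, beq_iff_eq.1 (List.all_eq_true.1 h l (List.mem_range.2 hl))]

/-- The first character is the only one fixed by two elements fixing the first line. -/
theorem h_invariant {ψ : Q →* U} (h0 : ψ (qg 0) = 1) (hne : ψ ≠ 1)
    (h : ∀ w ∈ hW, ∀ q, ψ (cjQ (el w) q) = ψ q) : ψ = chi 0 := by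
  obtain ⟨m, hm, rfl⟩ := span_hom h0
  have ht := List.all_eq_true.1 h_inv_chk m (List.mem_range.2 hm)
  simp only [Bool.or_eq_true, Bool.not_eq_true', List.all_eq_false] at ht
  rcases ht with (⟨w, hw, hf⟩ | ht) | ht
  · exact absurd (inv_ok (fun g hg => word_facts.1 w (by simp [hw]) g hg) (h w hw)) hf
  · exact absurd (comb_const (c := fun _ => false) ht (ψ := 1) fun l _ => rfl) hne
  · exact comb_const (c := chiBit 0) ht fun l hl => chi_qg hl (by norm_num)

/-- No character is fixed by the twisted elements. -/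
theorem k_invariant {ψ : Q →* U} (h0 : ψ (qg 0) = 1)
    (h : ∀ w ∈ kW, ∀ q, ψ (cjQ (el w) q) = ψ q) : ψ = 1 := by
  obtain ⟨m, hm, rfl⟩ := span_hom h0
  have ht := List.all_eq_true.1 k_inv_chk m (List.mem_range.2 hm)
  simp only [Bool.or_eq_true, Bool.not_eq_true', List.all_eq_false] at ht
  rcases ht with ⟨w, hw, hf⟩ | ht
  · exact absurd (inv_ok (fun g hg => word_facts.1 w (by simp [hw]) g hg) (h w hw)) hf
  · exact comb_const (c := fun _ => false) ht fun l _ => rfl

theorem chi0_zero : chi 0 (qg 0) = 1 := by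
  rw [chi_qg (by norm_num) (by norm_num), chi0_facts.1]; rfl

theorem chi0_ne : chi 0 ≠ 1 := fun e => by
  have := DFunLike.congr_fun e (qg 7)
  rw [chi_qg (by norm_num) (by norm_num), chi0_facts.2] at this
  exact absurd this (by decide)

theorem qg_zero_ne : qg 0 ≠ 1 := fun e => by
  have h := congrArg (fun q : Q => ((q : cTh) : Spor.Th)) e
  rw [qg_zero] at h
  have h2 := tg_zero_order
  rw [show tg 0 = 1 from h, orderOf_one] at h2
  norm_num at h2

theorem qg_zero_central (x : cTh) : x * (qg 0 : cTh) = (qg 0 : cTh) * x :=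
  Subtype.ext (by simp only [Subgroup.coe_mul, qg_zero]; exact mem_cTh.1 x.2)

theorem qg_zero_orderOf : orderOf (qg 0) = 2 := by
  rw [← Subgroup.orderOf_coe, ← Subgroup.orderOf_coe, qg_zero]
  exact tg_zero_order

/-- An element with all eight signs trivial is central. -/
theorem signs_trivial {q : Q} (h : ∀ k < 8, chi (baseB k) q = 1) : q ∈ Subgroup.zpowers (qg 0) := by
  haveI : Finite Q := Nat.finite_of_card_ne_zero (by rw [card_Q]; norm_num)
  let Φ : Q →* (Fin 8 → U) := MonoidHom.pi fun k => chi (baseB k.val)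
  have hsurj : Function.Surjective Φ := fun v => by
    obtain ⟨c, hc, hv⟩ := exists_code fun k => if hk : k < 8 then decide (v ⟨k, hk⟩ = -1) else false
    refine ⟨((List.range 8).map fun l => if bitN (dualSol.getD c 0) l then qg (l + 1) else 1).prod, funext fun k => ?_⟩
    show chi (baseB k.val) _ = v k
    rw [map_sel (chi (baseB k.val)) (bitN (dualSol.getD c 0)) (fun l => chiBit (baseB k.val) (l + 1))
        (fun l => qg (l + 1)) _ fun l hl => chi_qg (by have := List.mem_range.1 hl; omega) (baseB_lt k.2),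
      dual_chk c hc k.val k.2, hv k.val k.2, dif_pos k.2]
    exact (bu_surj _).symm
  have hle : Subgroup.zpowers (qg 0) ≤ Φ.ker := by
    rw [Subgroup.zpowers_le, MonoidHom.mem_ker]
    funext k
    show chi (baseB k.val) (qg 0) = 1
    rw [chi_qg (by norm_num) (baseB_lt k.2), zero_bit k]
    rfl
  have hcard : Nat.card Φ.ker = 2 := by
    have h1 := Subgroup.card_eq_card_quotient_mul_card_subgroup Φ.ker
    rw [Nat.card_congr (QuotientGroup.quotientKerEquivOfSurjective Φ hsurj).toEquiv, card_Q, Nat.card_fun,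
      Nat.card_fin, Nat.card_eq_fintype_card, ZMod.card_units 3] at h1
    omega
  rw [Subgroup.eq_of_le_of_card_ge hle (by rw [hcard, Nat.card_zpowers, qg_zero_orderOf])]
  exact MonoidHom.mem_ker.2 (funext fun k => h k.val k.2)
where
  zero_bit : ∀ k : Fin 8, chiBit (baseB k.val) 0 = false := by decide +kernel

theorem center_Q : Subgroup.center Q = Subgroup.zpowers (qg 0) := by
  haveI : Finite Q := Nat.finite_of_card_ne_zero (by rw [card_Q]; norm_num)
  refine (Subgroup.eq_of_le_of_card_ge ?_ ?_).symm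
  · rw [Subgroup.zpowers_le, Subgroup.mem_center_iff]
    exact fun q => Subtype.ext (qg_zero_central _)
  · rw [cHom_ker.2.2, Nat.card_zpowers, qg_zero_orderOf]

theorem cjQ_zero (x : cTh) : cjQ x (qg 0) = qg 0 :=
  Subtype.ext (by rw [cjQ_val, qg_zero_central, mul_inv_cancel_right])

/-- Only the central involution centralises the normal subgroup. -/
theorem centralizing {x : cTh} (h : ∀ q : Q, x * q = q * x) : x = 1 ∨ x = (qg 0 : cTh) := by
  let Z : Subgroup cTh := Subgroup.centralizer (Q : Set cTh)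
  have hZn : Z.Normal := ⟨fun z hz g => Subgroup.mem_centralizer_iff.2 fun q hq => by
    have hq' : g⁻¹ * q * g ∈ Q := by
      have := (inferInstance : Q.Normal).conj_mem q hq g⁻¹
      rwa [inv_inv] at this
    have e := Subgroup.mem_centralizer_iff.1 hz _ hq'
    calc q * (g * z * g⁻¹) = g * ((g⁻¹ * q * g) * z) * g⁻¹ := by group
      _ = g * (z * (g⁻¹ * q * g)) * g⁻¹ := by rw [e]
      _ = g * z * g⁻¹ * q := by group⟩
  haveI := alternatingGroup.isSimpleGroup (α := Fin 9) (by simp)
  have hbot : Z.map cHom = ⊥ := by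
    rcases (hZn.map cHom cHom_surj).eq_bot_or_eq_top with e | e
    · exact e
    · exfalso
      obtain ⟨g, hg, hgs⟩ := exists_outside
      obtain ⟨z, hz, ez⟩ : cHom (lt g) ∈ Z.map cHom := e ▸ Subgroup.mem_top _
      obtain ⟨j, hj, ej, hm⟩ := cHom_moves z 0 (by norm_num)
      have hstep : chi j = chi 0 := by
        refine MonoidHom.ext fun q => ?_
        have e0 : cjQ z q = q := Subtype.ext (by
          rw [cjQ_val, ← Subgroup.mem_centralizer_iff.1 hz _ q.2, mul_inv_cancel_right])
        obtain ⟨s, hs⟩ : ∃ s : U, lineM 0 * (rho (z : Spor.Th)).val = (s : ZMod 3) • lineM j := by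
          rcases ej with ej | ej
          · exact ⟨1, by simpa using ej⟩
          · exact ⟨-1, by simpa using ej⟩
        have e2 : rhoQ q * rho (z : Spor.Th) = rho (z : Spor.Th) * rhoQ q := by
          rw [rhoQ_def]
          rw [← map_mul, ← map_mul]
          exact congrArg rho (congrArg Subtype.val (Subgroup.mem_centralizer_iff.1 hz _ q.2))
        have h' := congrArg (fun g : GL (Fin 248) (ZMod 3) => lineM 0 * g.val) e2
        simp only [Units.val_mul, ← Matrix.mul_assoc, chi_spec (show 0 < 120 by norm_num), hs, Matrix.smul_mul,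
          chi_spec hj, smul_smul] at h'
        rw [← Units.val_mul, ← Units.val_mul, mul_comm (chi 0 _)] at h'
        exact (mul_left_cancel (line_sign hj h')).symm
      have hj0 : j = 0 := apart j hj (List.all_eq_true.2 fun l hl => beq_iff_eq.2 (bu_inj _ _ (by
        rw [← chi_qg (List.mem_range.1 hl) hj, ← chi_qg (List.mem_range.1 hl) (by norm_num), hstep])))
      subst hj0
      rw [ez, (lt_rho hg).2, prep_zero] at hm
      exact hgs (by simpa using hm)
  have hxQ : x ∈ Q := by
    rw [MonoidHom.mem_ker, ← Subgroup.mem_bot, ← hbot]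
    exact ⟨x, Subgroup.mem_centralizer_iff.2 fun q hq => (h ⟨q, hq⟩).symm, rfl⟩
  have hc : (⟨x, hxQ⟩ : Q) ∈ Subgroup.center Q := Subgroup.mem_center_iff.2 fun q => Subtype.ext (h q).symm
  rw [center_Q] at hc
  obtain ⟨n, hn⟩ := hc
  have hn' : qg 0 ^ n = ⟨x, hxQ⟩ := hn
  rcases Int.emod_two_eq_zero_or_one n with h2 | h2
  · left
    rw [← zpow_mod_orderOf, qg_zero_orderOf] at hn'
    norm_num [h2] at hn'
    exact (congrArg Subtype.val hn').symm
  · right
    rw [← zpow_mod_orderOf, qg_zero_orderOf] at hn'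
    norm_num [h2] at hn'
    exact (congrArg Subtype.val hn').symm
where
  apart : ∀ j < 120, ((List.range 9).all fun l => chiBit j l == chiBit 0 l) = true → j = 0 := by decide +kernel

end Cfsg.Lib.ThOut
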